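import Cfsg.Agent.ClassicalMax.DecAny.Maximal
import Cfsg.Agent.ClassicalMax.NdFour
import Cfsg.Agent.Asch.EvenType

/-!
The stabiliser of a non-degenerate subspace of half the dimension eight in a space of minus type.
-/

set_option autoImplicit false
set_option linter.unusedSectionVars false
set_option linter.style.haveILetI false

namespace Cfsg.Agent.ClassicalMax.Small8

open Module QuadraticMap Cfsg.Agent.Classical Cfsg.Agent.Classical.Quad Cfsg.Agent.ClassicalMax.RootPlanes
open Cfsg.Agent.ClassicalMax

variable {F : Type*} [Field F] [Fintype F] {n : ℕ}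

/-- maximality of the stabiliser of a half in dimension eight and minus type -/
theorem isMaximalIn_halves (q : QuadraticForm F (Fin n → F)) (hQ : (polarBilin q).Nondegenerate) (hn : n = 8)
    (hminus : ¬ Cfsg.Geo.IsPlusTypeOn ⇑q ⊤) {W : Submodule F (Fin n → F)} (hW : NdOn q W) (h4 : finrank F W = 4) :
    Cfsg.Geo.IsMaximalIn (Cfsg.Geo.omegaGL ⇑q) (Cfsg.Geo.subspaceStabilizer W ⊓ Cfsg.Geo.omegaGL ⇑q) := by
  classical
  obtain ⟨hc, hperp, hnd'⟩ := nondeg_compl q hQ hW
  set B := perpS q W with hB
  have hdim : finrank F (Fin n → F) = 8 := by rw [Module.finrank_fin_fun, hn]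
  have hsum := finrank_perpS hQ W
  have hB4 : finrank F B = 4 := by
    have : finrank F B = finrank F (perpS q W) := rfl
    rw [hdim, h4] at hsum
    omega
  let D : Fin 2 → Submodule F (Fin n → F) := ![W, B]
  have hd : ∀ i, finrank F (D i) = 4 := fun i => by fin_cases i <;> assumption
  have hp : DecAny.Pre q D :=
    { nd := hQ
      top := by
        refine eq_top_iff.2 (hc.sup_eq_top.ge.trans (sup_le ?_ ?_))
        · exact le_iSup D 0
        · exact le_iSup D 1
      perp := fun i j hij x hx y hy => by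
        fin_cases i <;> fin_cases j
        · exact absurd rfl hij
        · exact hperp x hx y hy
        · exact (polar_comm _ x y).trans (hperp y hy x hx)
        · exact absurd rfl hij
      ndD := fun i => by fin_cases i <;> assumption
      eqdim := fun i j => by rw [hd i, hd j]
      dimV := by rw [hdim]; norm_num }
  have hw : DecAny.Wide q D :=
    { toPre := hp
      dim := fun i => (hd i).ge
      small := by
        refine Or.inr (Or.inr (Or.inr ⟨rfl, ?_⟩))
        by_contra hno
        push Not at hno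
        have key : ∀ i, Cfsg.Geo.IsPlusTypeOn ⇑q (D i) := fun i => by
          have := hno i
          simp only [DecAny.NoPlane] at this
          push Not at this
          obtain ⟨a, ha, b, hb, ha0, haq, hbq, hab, hba⟩ := this
          exact DecAny.plus_of_plane (hd i) ha hb ha0 haq hbq hab hba
        obtain ⟨U, hUW, hU, hUd⟩ := key 0
        obtain ⟨U', hUB, hU', hU'd⟩ := key 1
        rw [hd] at hUd hU'd
        refine hminus (Asch.plus_top (U := U ⊔ U') (fun x hx => ?_) ?_)
        · obtain ⟨u, hu, u', hu', rfl⟩ := Submodule.mem_sup.1 hx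
          rw [map_add', hU u hu, hU' u' hu', hperp u (hUW hu) u' (hUB hu'), add_zero, add_zero]
        · have h1 := Submodule.finrank_sup_add_finrank_inf_eq U U'
          rw [show U ⊓ U' = ⊥ from le_bot_iff.1 ((inf_le_inf hUW hUB).trans hc.disjoint.le_bot), finrank_bot] at h1
          rw [Fintype.card_fin]
          omega }
  have hx : ∀ (g : Quad.oG q) x, Matrix.mulVec (Cfsg.glToMat (Fin n) F ((glEquiv (Fin n) F).symm g.1)) x = g.1 x :=
    fun g x => by
      conv_rhs => rw [← (glEquiv (Fin n) F).apply_symm_apply g.1]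
      rw [glEquiv_apply]
      rfl
  have hmem : ∀ g : Quad.oG q, (glEquiv (Fin n) F).symm g.1 ∈ Cfsg.Geo.subspaceStabilizer W ↔
      ∀ x ∈ W, g.1 x ∈ W := fun g => by
    refine ⟨fun h x hxW => hx g x ▸ (h x).1 hxW, fun h x => ?_⟩
    rw [hx]
    refine ⟨h x, fun hv => ?_⟩
    obtain ⟨w, hw, e⟩ := (map_eq_of_le (g := g.1) rfl h).ge hv
    exact g.1.injective e ▸ hw
  refine isMaximalIn_omega q hQ (by rw [Fintype.card_fin]; omega) _ ?_ fun H hH g hg hgS => ?_
  · obtain ⟨e, he, he0, heq⟩ := DecAny.exists_sing hw 0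
    obtain ⟨e', he', -, hee⟩ := DecAny.partner hp he he0 heq
    obtain ⟨f, hf, hf0⟩ := Submodule.exists_mem_ne_zero_of_ne_bot (p := B) fun h => by
      rw [h, finrank_bot] at hB4
      exact absurd hB4 (by norm_num)
    refine ⟨Quad.sO heq (hperp e he f hf), Quad.sO_mem_commutator hQ (Or.inr (by omega)) _ _, fun hm => hf0 ?_⟩
    have h1 := (hmem _).1 hm e' he'
    rw [Quad.sO_apply, hperp e' he' f hf, polar_comm q e' e, hee] at h1
    have h2 := W.sub_mem (W.sub_mem h1 he') (W.smul_mem (-(q f * 1)) he)
    rw [show e' + (0 : F) • e + (-1 : F) • f + (-(q f * 1)) • e - e' - (-(q f * 1)) • e = (-1 : F) • f by module] at h2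
    exact Submodule.disjoint_def.1 hc.disjoint f (by simpa using h2) hf
  · have hO : DecOrth.Over D H :=
      ⟨fun g hg h => hH g hg ((hmem g).2 (h 0)), fun a b c hab hbc hac => by exfalso; omega⟩
    by_contra hno
    obtain ⟨σ, hσ⟩ : ∃ σ : Equiv.Perm (Fin 2), ∀ i, (D i).map g.1.toLinearMap = D (σ i) :=
      by_contra fun h => hno (DecAny.overgroup_wide hw hO hg h)
    by_cases h0 : σ 0 = 0
    · refine hgS ((hmem g).2 fun x hxW => ?_)
      have h1 := hσ 0
      rw [h0] at h1
      exact h1.le (Submodule.mem_map_of_mem hxW)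
    · have h1 := hσ 0
      rw [show σ 0 = 1 by omega] at h1
      have hB' : ∀ x : W, g.1 x ∈ B := fun x => h1.le (Submodule.mem_map_of_mem x.2)
      let L₂ : W →ₗ[F] (Fin n → F) := g.1.toLinearMap.comp W.subtype
      have hL : ∀ x, L₂ x = g.1 x := fun x => rfl
      refine hminus (Asch.plus_of_two_maps hQ (X := W) W.subtype L₂
        (by rw [h4, Fintype.card_fin]; omega) (by rw [h4]; exact ⟨2, rfl⟩) (fun x => by rw [hL]; exact g.2 x)
        (fun x y => by rw [hL]; exact hperp x x.2 _ (hB' y)) fun x y hxy => ?_)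
      rw [hL] at hxy
      have hx0 : (x : Fin n → F) = 0 := Submodule.disjoint_def.1 hc.disjoint _ x.2 (by
        rw [show (x : Fin n → F) = -(g.1 y) from eq_neg_of_add_eq_zero_left hxy]
        exact B.neg_mem (hB' y))
      refine ⟨Subtype.ext hx0, Subtype.ext (g.1.map_eq_zero_iff.1 ?_)⟩
      have : (x : Fin n → F) + g.1 y = 0 := hxy
      rwa [hx0, zero_add] at this

end Cfsg.Agent.ClassicalMax.Small8
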